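import Groth.Agent.GrMod19.Gor.Top
import Groth.Agent.GrMod19.Ver.Ring
import Mathlib.RingTheory.MvPolynomial.WeightedHomogeneous
import Mathlib.RingTheory.MvPolynomial.Basic
import Mathlib.RingTheory.Invariant.Basic

/-!
The grading of the invariants of a linear action on a polynomial ring.
-/

set_option autoImplicit false

universe u

open MvPolynomial DirectSum

noncomputable section

namespace Groth.Agent.InvTh34.Grading

variable {k : Type u} [Field k] {n : ℕ}

local notation "P" => MvPolynomial (Fin n) k
local notation "wt" => (fun _ => (1 : ℤ) : Fin n → ℤ)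

variable {G : Type u} [Group G] [MulSemiringAction G (MvPolynomial (Fin n) k)]
  [SMulCommClass G k (MvPolynomial (Fin n) k)]
  (hlin : ∀ (g : G) (i : Fin n), IsWeightedHomogeneous (fun _ => (1 : ℤ)) (g • (X i : MvPolynomial (Fin n) k)) 1)

include hlin

theorem smul_monomial (g : G) (d : Fin n →₀ ℕ) (c : k) :
    IsWeightedHomogeneous wt (g • monomial d c) (Finsupp.weight wt d) := by
  classical
  rw [monomial_eq, Finsupp.prod, smul_mul', show g • (C c : P) = C c by
    rw [show (C c : P) = c • 1 by rw [← C_mul', mul_one], smul_comm, smul_one], Finset.smul_prod']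
  have h : IsWeightedHomogeneous wt (∏ i ∈ d.support, g • ((X i : P) ^ d i)) (∑ i ∈ d.support, d i • (1 : ℤ)) := by
    refine IsWeightedHomogeneous.prod _ _ _ fun i _ => ?_
    rw [smul_pow']
    exact (hlin g i).pow _
  have h2 := (isWeightedHomogeneous_C wt c).mul h
  rw [zero_add] at h2
  convert h2 using 1
  rw [Finsupp.weight_apply, Finsupp.sum]

theorem component_smul (g : G) (e : ℤ) (p : P) :
    weightedHomogeneousComponent wt e (g • p) = g • weightedHomogeneousComponent wt e p := by
  induction p using MvPolynomial.induction_on' with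
  | add p q hp hq => rw [smul_add, map_add, map_add, smul_add, hp, hq]
  | monomial d c =>
    have h1 : IsWeightedHomogeneous wt (monomial d c) (Finsupp.weight wt d) := isWeightedHomogeneous_monomial _ _ _ rfl
    by_cases hde : Finsupp.weight wt d = e
    · subst hde
      rw [h1.weightedHomogeneousComponent_same, (smul_monomial hlin g d c).weightedHomogeneousComponent_same]
    · rw [h1.weightedHomogeneousComponent_ne e (Ne.symm hde), smul_zero,
        (smul_monomial hlin g d c).weightedHomogeneousComponent_ne e (Ne.symm hde)]

omit hlin

variable (k n G)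

/-- The pieces. -/
def piece (e : ℤ) : AddSubgroup (FixedPoints.subalgebra k (MvPolynomial (Fin n) k) G) :=
  (weightedHomogeneousSubmodule k wt e).toAddSubgroup.comap
    (FixedPoints.subalgebra k (MvPolynomial (Fin n) k) G).val.toAddMonoidHom

variable {k n G}

theorem mem_piece {e : ℤ} {a : FixedPoints.subalgebra k P G} :
    a ∈ piece k n G e ↔ IsWeightedHomogeneous wt (a : P) e := Iff.rfl

include hlin

theorem component_mem (a : FixedPoints.subalgebra k P G) (e : ℤ) :
    weightedHomogeneousComponent wt e (a : P) ∈ FixedPoints.subalgebra k P G := fun g => by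
  rw [← component_smul hlin, show g • (a : P) = a from a.2 g]

theorem exists_graded : ∃ (_ : GradedRing (piece k n G)),
    GrMod19.NonnegGr (piece k n G) ∧ IsField (GrLC.deg0 (piece k n G)) ∧
      ∀ a : FixedPoints.subalgebra k P G, constantCoeff (a : P) = 0 →
        a ∈ Ideal.span (⋃ e ∈ Set.Ioi (0 : ℤ), (piece k n G e : Set (FixedPoints.subalgebra k P G))) := by
  classical
  let B := FixedPoints.subalgebra k P G
  haveI : SetLike.GradedMonoid (piece k n G) :=
    { one_mem := isWeightedHomogeneous_one k wt
      mul_mem := fun _ _ _ _ ha hb => mem_piece.2 ((mem_piece.1 ha).mul (mem_piece.1 hb)) }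
  have hcomp : ∀ (x : ⨁ e, piece k n G e) (e : ℤ),
      weightedHomogeneousComponent wt e ((DirectSum.coeAddMonoidHom (piece k n G) x : B) : P) = ((x e : B) : P) := by
    intro x e
    induction x using DirectSum.induction_on with
    | zero => simp
    | of d y =>
      rw [DirectSum.coeAddMonoidHom_of, DirectSum.of_apply]
      by_cases hde : d = e
      · subst hde
        rw [dif_pos rfl, (mem_piece.1 y.2).weightedHomogeneousComponent_same]
      · rw [dif_neg hde, (mem_piece.1 y.2).weightedHomogeneousComponent_ne e (Ne.symm hde)]
        rfl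
    | add x y hx hy => simp [map_add, hx, hy]
  have hInt : DirectSum.IsInternal (piece k n G) := by
    refine ⟨fun x y hxy => DFinsupp.ext fun e => Subtype.ext (Subtype.ext ?_), fun a => ?_⟩
    · exact (hcomp x e).symm.trans ((congrArg (fun b : B => weightedHomogeneousComponent wt e (b : P)) hxy).trans (hcomp y e))
    · refine ⟨∑ e ∈ (a : P).support.image (Finsupp.weight wt), DirectSum.of _ e
        ⟨⟨_, component_mem hlin a e⟩, weightedHomogeneousComponent_isWeightedHomogeneous e _⟩, ?_⟩
      rw [map_sum]
      refine Subtype.ext ?_
      rw [AddSubmonoidClass.coe_finsetSum]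
      simp only [DirectSum.coeAddMonoidHom_of]
      conv_rhs => rw [← sum_weightedHomogeneousComponent (w := wt) (a : P)]
      rw [finsum_eq_sum_of_support_subset]
      intro e he
      simp only [Function.mem_support, ne_eq] at he
      rw [Finset.coe_image, Set.mem_image]
      by_contra hcon
      push Not at hcon
      exact he (weightedHomogeneousComponent_eq_zero' e _ fun d hd => hcon d (Finset.mem_coe.2 hd))
  letI : DirectSum.Decomposition (piece k n G) := hInt.chooseDecomposition
  letI hgr : GradedRing (piece k n G) := { }
  have hneg : ∀ (e : ℤ), e < 0 → ∀ p : P, IsWeightedHomogeneous wt p e → p = 0 := by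
    intro e he p hp
    ext d
    by_contra hd
    rw [coeff_zero] at hd
    have := hp hd
    rw [Finsupp.weight_apply, Finsupp.sum] at this
    have h0 : 0 ≤ ∑ i ∈ d.support, d i • (1 : ℤ) := Finset.sum_nonneg fun i _ => by simp
    omega
  have hzero : ∀ p : P, IsWeightedHomogeneous wt p 0 → p = C (constantCoeff p) := by
    intro p hp
    ext d
    by_cases hd : d = 0
    · subst hd; simp [constantCoeff_eq]
    · rw [coeff_C, if_neg (Ne.symm hd)]
      by_contra hd'
      have := hp hd'
      rw [Finsupp.weight_apply, Finsupp.sum] at this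
      refine hd (Finsupp.support_eq_empty.1 ?_)
      by_contra hne
      have hpos : 0 < ∑ i ∈ d.support, d i • (1 : ℤ) :=
        Finset.sum_pos (fun i hi => by
          have : d i ≠ 0 := Finsupp.mem_support_iff.1 hi
          simp; omega) (Finset.nonempty_iff_ne_empty.2 hne)
      omega
  refine ⟨hgr, fun e he x hx => Subtype.ext (hneg e he _ hx), ?_, fun a ha => ?_⟩
  · refine ⟨⟨0, 1, ?_⟩, mul_comm, fun {x} hx => ?_⟩
    · exact fun h => zero_ne_one (α := P) (congrArg (fun z : GrLC.deg0 (piece k n G) => ((z : B) : P)) h)
    · have hx' : IsWeightedHomogeneous wt ((x : B) : P) 0 := x.2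
      have hc : constantCoeff ((x : B) : P) ≠ 0 := fun h => hx (Subtype.ext (Subtype.ext (by
        rw [hzero _ hx', h, map_zero]; rfl)))
      refine ⟨⟨algebraMap k B (constantCoeff ((x : B) : P))⁻¹, isWeightedHomogeneous_C _ _⟩, Subtype.ext (Subtype.ext ?_)⟩
      show ((x : B) : P) * algebraMap k P (constantCoeff ((x : B) : P))⁻¹ = 1
      conv_lhs => arg 1; rw [hzero _ hx']
      rw [MvPolynomial.algebraMap_eq, ← map_mul, mul_inv_cancel₀ hc, map_one]
  · rw [← DirectSum.sum_support_decompose (piece k n G) a]
    refine sum_mem fun e he => ?_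
    have hcmp : ((DirectSum.decompose (piece k n G) a e : B) : P) = weightedHomogeneousComponent wt e (a : P) := by
      rw [← hcomp]
      exact congrArg (fun z : B => weightedHomogeneousComponent wt e (z : P))
        ((DirectSum.decompose (piece k n G)).symm_apply_apply a)
    rcases lt_trichotomy e 0 with h | h | h
    · rw [show (DirectSum.decompose (piece k n G) a e : B) = 0 from
        Subtype.ext (hneg e h _ (DirectSum.decompose (piece k n G) a e).2)]
      exact zero_mem _
    · subst h
      have h2 : ((DirectSum.decompose (piece k n G) a 0 : B) : P) =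
          C (constantCoeff ((DirectSum.decompose (piece k n G) a 0 : B) : P)) :=
        hzero _ (DirectSum.decompose (piece k n G) a 0).2
      rw [show (DirectSum.decompose (piece k n G) a 0 : B) = 0 from Subtype.ext (by
        rw [h2, hcmp, constantCoeff_eq, coeff_weightedHomogeneousComponent]
        rw [constantCoeff_eq] at ha
        simp [ha])]
      exact zero_mem _
    · exact Ideal.subset_span (Set.mem_biUnion h (DirectSum.decompose (piece k n G) a e).2)

end Groth.Agent.InvTh34.Grading
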