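import Groth.Agent.InvTh34.Wiebe
import Groth.Agent.Gor18.LCI
import Groth.Agent.Gor18.Dim
import Groth.Agent.Gor18.Regular
import Groth.Agent.LC16.SopRegular
import Groth.Agent.EGA4Alg4.IntegralDim
import Groth.Agent.E4O.DimField
import Mathlib.RingTheory.RegularLocalRing.Polynomial
import Mathlib.RingTheory.MvPolynomial.Ideal
import Mathlib.RingTheory.Invariant.Basic
import Mathlib.RingTheory.Adjoin.Tower

/-!
Watanabe's theorem at the origin: the invariants of a finite subgroup of `SL_n` of order invertible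
in the field are Gorenstein at the irrelevant ideal.
-/

set_option autoImplicit false

universe u

open MvPolynomial Matrix

noncomputable section

namespace Groth.Agent.InvTh34.Watanabe

variable (k : Type u) [Field k] (n : ℕ)

local notation "P" => MvPolynomial (Fin n) k

/-- The ideal of the origin. -/
def m₀ : Ideal (MvPolynomial (Fin n) k) := RingHom.ker (constantCoeff (R := k) (σ := Fin n))

instance : (m₀ k n).IsMaximal :=
  RingHom.ker_isMaximal_of_surjective _ fun c => ⟨C c, constantCoeff_C _ c⟩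

theorem span_X : Ideal.span (Set.range (X : Fin n → P)) = m₀ k n := by
  refine le_antisymm (Ideal.span_le.2 ?_) fun p hp => ?_
  · rintro _ ⟨i, rfl⟩
    exact RingHom.mem_ker.2 (constantCoeff_X k i)
  · rw [← Set.image_univ, mem_ideal_span_X_image]
    intro d hd
    by_contra hcon
    push Not at hcon
    have hd0 : d = 0 := Finsupp.ext fun i => hcon i (Set.mem_univ i)
    rw [mem_support_iff, hd0] at hd
    have hp' : constantCoeff p = 0 := hp
    exact hd (by rwa [constantCoeff_eq] at hp')

/-- The local ring at the origin. -/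
abbrev R₀ : Type u := Localization.AtPrime (m₀ k n)

theorem span_x : Ideal.span (Set.range fun i => algebraMap P (R₀ k n) (X i)) = IsLocalRing.maximalIdeal (R₀ k n) := by
  have h := congrArg (Ideal.map (algebraMap P (R₀ k n))) (span_X k n)
  rw [Ideal.map_span, ← Set.range_comp] at h
  exact h.trans Localization.AtPrime.map_eq_maximalIdeal

theorem dim_R₀ : ringKrullDim (R₀ k n) = n := by
  rw [IsLocalization.AtPrime.ringKrullDim_eq_height (m₀ k n) (R₀ k n), E4O.height_maximal_eq k P (m₀ k n)]
  simp [MvPolynomial.trdeg_of_isDomain]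

instance : LocCoh.IsCohenMacaulayLocalRing (R₀ k n) :=
  haveI : LocCoh.IsGorensteinLocalRing (R₀ k n) := Gor18.regular_gor (R₀ k n)
  Gor18.gor_cm (R₀ k n)

/-- A system of parameters has the cancellation property. -/
theorem cancel (a : Fin n → R₀ k n) (h : (Ideal.span (Set.range a)).radical = IsLocalRing.maximalIdeal (R₀ k n)) :
    Wiebe.Cancel a :=
  fun i _ hz => LC16.sop_cancel (dim_R₀ k n) a h i hz

theorem radical_pow (N : ℕ) :
    (Ideal.span (Set.range fun i => algebraMap P (R₀ k n) (X i) ^ (N + 1))).radical =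
      IsLocalRing.maximalIdeal (R₀ k n) := by
  refine le_antisymm ?_ ?_
  · refine (Ideal.radical_mono ?_).trans_eq (IsLocalRing.maximalIdeal.isMaximal _).isPrime.radical
    rw [Ideal.span_le]
    rintro _ ⟨i, rfl⟩
    exact Ideal.pow_mem_of_mem _ (span_x k n ▸ Ideal.subset_span ⟨i, rfl⟩) _ N.succ_pos
  · rw [← span_x, Ideal.span_le]
    rintro _ ⟨i, rfl⟩
    exact ⟨N + 1, Ideal.subset_span ⟨i, rfl⟩⟩

theorem prod_notMem (N : ℕ) : ∏ i, algebraMap P (R₀ k n) (X i) ^ N ∉
    Ideal.span (Set.range fun i => algebraMap P (R₀ k n) (X i) ^ (N + 1)) := by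
  classical
  intro h
  rw [show (fun i => algebraMap P (R₀ k n) (X i) ^ (N + 1)) = algebraMap P (R₀ k n) ∘ fun i => (X i : P) ^ (N + 1) from
    funext fun i => (map_pow _ _ _).symm, Set.range_comp, ← Ideal.map_span] at h
  simp only [← map_pow, ← map_prod] at h
  obtain ⟨t, ht, htm⟩ := (IsLocalization.algebraMap_mem_map_algebraMap_iff (m₀ k n).primeCompl _ _ _).1 h
  rw [show (fun i => (X i : P) ^ (N + 1)) = (fun s => monomial s (1 : k)) ∘ fun i => Finsupp.single i (N + 1) from
    funext fun i => X_pow_eq_monomial, Set.range_comp, mem_ideal_span_monomial_image] at htm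
  let d : Fin n →₀ ℕ := Finsupp.equivFunOnFinite.symm fun _ => N
  have hd : ∏ i, (X i : P) ^ N = monomial d 1 := by
    rw [← prod_X_pow_eq_monomial, ← Finset.prod_subset (Finset.subset_univ d.support) fun i _ hi => by
      have : d i = 0 := Finsupp.notMem_support_iff.1 hi
      rw [show N = d i from rfl, this, pow_zero]]
    rfl
  rw [hd] at htm
  obtain ⟨_, ⟨i, rfl⟩, hle⟩ := htm d (by
    rw [mem_support_iff]
    have := coeff_mul_monomial (R := k) 0 d 1 t
    rw [zero_add, mul_one] at this
    rw [this]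
    exact fun h0 => ht (RingHom.mem_ker.2 h0))
  have := hle i
  simp [d] at this

variable {k n} {G : Type u} [Group G] [Finite G] [MulSemiringAction G (MvPolynomial (Fin n) k)]
  [SMulCommClass G k (MvPolynomial (Fin n) k)]

theorem cc_smul {ρ : G → Matrix (Fin n) (Fin n) k}
    (hX : ∀ (g : G) (i : Fin n), g • (X i : P) = ∑ j, ρ g j i • (X j : P)) (g : G) (p : P) :
    constantCoeff (g • p) = constantCoeff p := by
  induction p using MvPolynomial.induction_on with
  | C c =>
    rw [show (C c : P) = c • 1 by rw [← C_mul', mul_one], smul_comm, smul_one]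
  | add p q hp hq => rw [smul_add, map_add, map_add, hp, hq]
  | mul_X p i hp =>
    rw [smul_mul', map_mul, map_mul, hX, map_sum, constantCoeff_X, mul_zero,
      Finset.sum_eq_zero fun j _ => by simp, mul_zero]

theorem unit_trick {S : Type*} [CommRing S] {a b c d : S} (hc : IsUnit c) (h : a * b = c * d) :
    a * ↑hc.unit⁻¹ * b = d := by
  rw [mul_right_comm, h, mul_right_comm, IsUnit.mul_val_inv, one_mul]

section main

variable (hG : IsUnit ((Nat.card G : ℕ) : k)) (ρ : G → Matrix (Fin n) (Fin n) k)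
  (hX : ∀ (g : G) (i : Fin n), g • (X i : P) = ∑ j, ρ g j i • (X j : P))
  (hdet : ∀ g, (ρ g).det = 1)

/-- The average. -/
def avg [Fintype G] (p : P) : P := ((Nat.card G : ℕ) : k)⁻¹ • ∑ g : G, g • p

theorem smul_avg [Fintype G] (p : P) (g : G) : g • avg (G := G) p = avg (G := G) p := by
  rw [avg, smul_comm, Finset.smul_sum]
  congr 1
  simp only [smul_smul]
  exact Fintype.sum_equiv (Equiv.mulLeft g) _ _ fun _ => rfl

theorem smul_prod [Fintype G] (p : P) (g : G) : g • (∏ h : G, h • p) = ∏ h : G, h • p := by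
  rw [Finset.smul_prod']
  simp only [smul_smul]
  exact Fintype.prod_equiv (Equiv.mulLeft g) _ _ fun _ => rfl

theorem avg_add [Fintype G] (p q : P) : avg (G := G) (p + q) = avg (G := G) p + avg (G := G) q := by
  simp [avg, smul_add, Finset.sum_add_distrib]

variable {B : Type u} [CommRing B] [Algebra B (MvPolynomial (Fin n) k)]
  [SMulCommClass G B (MvPolynomial (Fin n) k)]

include hG in
theorem avg_algebraMap [Fintype G] (a : B) : avg (G := G) (algebraMap B P a) = algebraMap B P a := by
  rw [avg, Finset.sum_congr rfl fun g _ => smul_algebraMap g a, Finset.sum_const, Finset.card_univ,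
    ← Nat.card_eq_fintype_card, ← Nat.cast_smul_eq_nsmul k, smul_smul, inv_mul_cancel₀ hG.ne_zero, one_smul]

theorem avg_mul [Fintype G] (a : B) (p : P) :
    avg (G := G) (algebraMap B P a * p) = algebraMap B P a * avg (G := G) p := by
  rw [avg, avg, mul_smul_comm, Finset.mul_sum]
  congr 1
  exact Finset.sum_congr rfl fun g _ => by rw [smul_mul', smul_algebraMap]

variable [FaithfulSMul B (MvPolynomial (Fin n) k)] [Algebra.IsInvariant B (MvPolynomial (Fin n) k) G]

/-- The ideal of the origin in the invariant ring. -/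
abbrev m₁ (B : Type u) [CommRing B] [Algebra B (MvPolynomial (Fin n) k)] : Ideal B :=
  (m₀ k n).comap (algebraMap B P)

include hG in
/-- An invariant in an ideal generated by invariants, after localisation. -/
theorem mem_of_map_mem {ρ' : G → Matrix (Fin n) (Fin n) k}
    (hX' : ∀ (g : G) (i : Fin n), g • (X i : P) = ∑ j, ρ' g j i • (X j : P))
    (I : Ideal B) (a : B)
    (h : algebraMap P (R₀ k n) (algebraMap B P a) ∈ (I.map (algebraMap B P)).map (algebraMap P (R₀ k n))) :
    algebraMap B (Localization.AtPrime (m₁ (k := k) (n := n) B)) a ∈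
      I.map (algebraMap B (Localization.AtPrime (m₁ (k := k) (n := n) B))) := by
  classical
  haveI := Fintype.ofFinite G
  obtain ⟨t, ht, htm⟩ := (IsLocalization.algebraMap_mem_map_algebraMap_iff (m₀ k n).primeCompl _ _ _).1 h
  let N : P := ∏ g : G, g • t
  obtain ⟨NB, hNB⟩ := Algebra.IsInvariant.isInvariant (A := B) (G := G) N (smul_prod t)
  have hNm : NB ∈ (m₁ (k := k) (n := n) B).primeCompl := fun hmem => ht (by
    have h0 : constantCoeff N = 0 := hNB ▸ hmem
    rw [map_prod, Finset.prod_eq_zero_iff] at h0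
    obtain ⟨g, -, hg⟩ := h0
    rw [cc_smul hX'] at hg
    exact hg)
  have hNa : N * algebraMap B P a ∈ I.map (algebraMap B P) := by
    rw [show N = t * ∏ g ∈ Finset.univ.erase (1 : G), g • t from by
      rw [show N = ∏ g : G, g • t from rfl, ← Finset.mul_prod_erase _ _ (Finset.mem_univ (1 : G)), one_smul],
      mul_right_comm]
    exact Ideal.mul_mem_right _ _ htm
  have key : ∀ q ∈ I.map (algebraMap B P), ∃ b ∈ I, algebraMap B P b = avg (G := G) q := by
    intro q hq
    induction hq using Submodule.span_induction with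
    | mem q hq =>
      obtain ⟨b, hb, rfl⟩ := hq
      exact ⟨b, hb, (avg_algebraMap hG b).symm⟩
    | zero => exact ⟨0, zero_mem _, by simp [avg]⟩
    | add q q' _ _ hq hq' =>
      obtain ⟨b, hb, he⟩ := hq
      obtain ⟨b', hb', he'⟩ := hq'
      exact ⟨b + b', add_mem hb hb', by rw [map_add, he, he', avg_add]⟩
    | smul c q hmem ih =>
      clear ih
      revert c
      induction hmem using Submodule.span_induction with
      | mem q hq =>
        intro c
        obtain ⟨b, hb, rfl⟩ := hq
        obtain ⟨cB, hcB⟩ := Algebra.IsInvariant.isInvariant (A := B) (G := G) _ (smul_avg (G := G) c)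
        refine ⟨cB * b, I.mul_mem_left _ hb, ?_⟩
        rw [map_mul, hcB, smul_eq_mul, mul_comm c, avg_mul, mul_comm]
      | zero => intro c; exact ⟨0, zero_mem _, by simp [avg]⟩
      | add q q' _ _ hq hq' =>
        intro c
        obtain ⟨b, hb, he⟩ := hq c
        obtain ⟨b', hb', he'⟩ := hq' c
        exact ⟨b + b', add_mem hb hb', by rw [map_add, he, he', smul_add, avg_add]⟩
      | smul d q _ hq =>
        intro c
        obtain ⟨b, hb, he⟩ := hq (c * d)
        exact ⟨b, hb, by rw [he, smul_eq_mul, smul_eq_mul, smul_eq_mul, mul_assoc]⟩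
  refine (IsLocalization.algebraMap_mem_map_algebraMap_iff (m₁ (k := k) (n := n) B).primeCompl _ _ _).2
    ⟨NB, hNm, ?_⟩
  obtain ⟨b, hb, he⟩ := key _ hNa
  rw [← hNB, ← map_mul, avg_algebraMap hG] at he
  exact FaithfulSMul.algebraMap_injective B P he ▸ hb

/-- An Artinian local ring whose non-zero socle elements are unit multiples of one element is
Gorenstein. -/
theorem gor_of_gen {S : Type u} [CommRing S] [IsLocalRing S] [IsArtinianRing S] (D : S) (hD0 : D ≠ 0)
    (hD : ∀ z ∈ IsLocalRing.maximalIdeal S, z * D = 0)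
    (hgen : ∀ y : S, y ∈ LocCoh.torsionBy (IsLocalRing.maximalIdeal S) S → y ≠ 0 → ∃ u : S, IsUnit u ∧ u * y = D) :
    LocCoh.IsGorensteinLocalRing S := by
  rw [Gor18.artinian_gor_iff_simple_socle]
  let socA := LocCoh.torsionBy (IsLocalRing.maximalIdeal S) S
  have hDsoc : D ∈ socA := (Submodule.mem_torsionBySet_iff _ _).2 fun z => hD z.1 z.2
  haveI : Nontrivial socA := ⟨⟨⟨D, hDsoc⟩, 0, fun h => hD0 (congrArg Subtype.val h)⟩⟩
  refine isSimpleModule_iff_toSpanSingleton_surjective.2 ⟨inferInstance, fun y hy w => ?_⟩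
  have hy0 : (y : S) ≠ 0 := fun h => hy (Subtype.ext h)
  obtain ⟨u, -, hu⟩ := hgen _ y.2 hy0
  by_cases hw : (w : S) = 0
  · exact ⟨0, Subtype.ext (by simpa using hw.symm)⟩
  obtain ⟨v, hv, hvw⟩ := hgen _ w.2 hw
  refine ⟨↑hv.unit⁻¹ * u, Subtype.ext ?_⟩
  show (↑hv.unit⁻¹ * u) * (y : S) = w
  rw [mul_assoc, hu, ← hvw, ← mul_assoc, IsUnit.val_inv_mul, one_mul]

/-- The invariants are Gorenstein at the origin. -/
theorem gor_m₁ (hG : IsUnit ((Nat.card G : ℕ) : k)) (ρ : G → Matrix (Fin n) (Fin n) k)
    (hX : ∀ (g : G) (i : Fin n), g • (X i : P) = ∑ j, ρ g j i • (X j : P)) (hdet : ∀ g, (ρ g).det = 1)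
    [IsNoetherianRing B] :
    LocCoh.IsGorensteinLocalRing (Localization.AtPrime (m₁ (k := k) (n := n) B)) := by
  classical
  haveI := Fintype.ofFinite G
  haveI : Algebra.IsIntegral B P := Algebra.IsInvariant.isIntegral B P G
  let m : Ideal B := m₁ (k := k) (n := n) B
  let L := Localization.AtPrime m
  let R := R₀ k n
  let ι : L →+* R := Localization.localRingHom m (m₀ k n) (algebraMap B P) rfl
  let φ : B →+* R := (algebraMap P R).comp (algebraMap B P)
  have hι : ∀ a : B, ι (algebraMap B L a) = φ a := fun a => Localization.localRingHom_to_map _ _ _ _ _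
  -- parameters
  obtain ⟨s, hs, hcard⟩ := m.exists_finset_card_eq_height_of_isNoetherianRing
  have hrad : (Ideal.span (φ '' (s : Set B))).radical = IsLocalRing.maximalIdeal R := by
    refine le_antisymm ?_ ?_
    · refine (Ideal.radical_mono ?_).trans_eq (IsLocalRing.maximalIdeal.isMaximal R).isPrime.radical
      rw [Ideal.span_le]
      rintro _ ⟨a, ha, rfl⟩
      exact (IsLocalization.AtPrime.to_map_mem_maximal_iff R (m₀ k n) _).2 (hs.1.2 (Ideal.subset_span ha))
    · rw [Ideal.radical_eq_sInf]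
      refine le_sInf fun Q ⟨hQ, hQp⟩ => ?_
      haveI := hQp
      let q : Ideal P := Q.comap (algebraMap P R)
      have hq0 : q ≤ m₀ k n := fun x hx => by
        by_contra hx'
        exact hQp.ne_top (Ideal.eq_top_of_isUnit_mem _ hx (IsLocalization.map_units R (⟨x, hx'⟩ : (m₀ k n).primeCompl)))
      have hqm : q.comap (algebraMap B P) = m := by
        refine le_antisymm (Ideal.comap_mono hq0) (hs.2 ⟨Ideal.comap_isPrime _ _, ?_⟩ (Ideal.comap_mono hq0))
        rw [Ideal.span_le]
        exact fun a ha => hQ (Ideal.subset_span ⟨a, ha, rfl⟩)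
      have hq : q = m₀ k n := hq0.eq_or_lt.resolve_right fun hlt =>
        (Ideal.IsIntegral.comap_lt_comap (R := B) hlt).ne hqm
      rw [← span_x, Ideal.span_le]
      rintro _ ⟨i, rfl⟩
      show (X i : P) ∈ q
      rw [hq]
      exact RingHom.mem_ker.2 (constantCoeff_X k i)
  have hs1 : s.card ≤ n := by
    have h1 : ringKrullDim B = n := by
      rw [← EGA4Alg4.ringKrullDim_eq_of_integral B P (FaithfulSMul.algebraMap_injective B P),
        MvPolynomial.ringKrullDim_of_isNoetherianRing, ringKrullDim_eq_zero_of_field]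
      simp
    have h2 : (m.height : WithBot ℕ∞) ≤ ringKrullDim B := Ideal.height_le_ringKrullDim_of_isPrime
    rw [h1, ← hcard] at h2
    exact_mod_cast h2
  have hs2 : n ≤ s.card := by
    have h := LC16.supportDim_le_of_le_radical (R := R) (M := R) (s.toList.map φ) ?_ ?_
    · rw [Module.supportDim_self_eq_ringKrullDim, dim_R₀, List.length_map, Finset.length_toList] at h
      exact_mod_cast h
    · intro b hb
      obtain ⟨a, ha, rfl⟩ := List.mem_map.1 hb
      exact hrad ▸ Ideal.le_radical (Ideal.subset_span ⟨a, Finset.mem_toList.1 ha, rfl⟩)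
    · rw [← hrad]
      refine Ideal.radical_mono (le_trans (Ideal.span_le.2 ?_) le_sup_right)
      rintro _ ⟨a, ha, rfl⟩
      exact Ideal.subset_span (List.mem_map.2 ⟨a, Finset.mem_toList.2 ha, rfl⟩)
  let e : Fin n ≃ s := (finCongr (le_antisymm hs2 hs1)).trans s.equivFin.symm
  let b : Fin n → B := fun i => e i
  have hb : Set.range b = (s : Set B) := Set.ext fun a =>
    ⟨by rintro ⟨i, rfl⟩; exact (e i).2, fun ha => ⟨e.symm ⟨a, ha⟩, by simp [b]⟩⟩
  let f : Fin n → R := fun i => φ (b i)
  have hfrad : (Ideal.span (Set.range f)).radical = IsLocalRing.maximalIdeal R := by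
    rw [show f = φ ∘ b from rfl, Set.range_comp, hb, hrad]
  have hfm : ∀ i, f i ∈ IsLocalRing.maximalIdeal R := fun i =>
    hfrad ▸ Ideal.le_radical (Ideal.subset_span ⟨i, rfl⟩)
  -- regular sequence
  let l : List L := (List.ofFn b).map (algebraMap B L)
  have hlm : ∀ y ∈ l, y ∈ IsLocalRing.maximalIdeal L := by
    intro y hy
    obtain ⟨a, ha, rfl⟩ := List.mem_map.1 hy
    obtain ⟨i, rfl⟩ := List.mem_ofFn.1 ha
    exact (IsLocalization.AtPrime.to_map_mem_maximal_iff L m _).2 (hs.1.2 (Ideal.subset_span (e i).2))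
  have hRreg : RingTheory.Sequence.IsWeaklyRegular R ((List.ofFn b).map φ) := by
    obtain ⟨rs, hlen, hrm, hrs⟩ := LC16.exists_isRegular_of_CM (dim_R₀ k n)
    refine LC16.isWeaklyRegular_of_le_radical rs _ hrs hrm (by simp [hlen]) ?_ ?_
    · intro y hy
      obtain ⟨a, ha, rfl⟩ := List.mem_map.1 hy
      obtain ⟨i, rfl⟩ := List.mem_ofFn.1 ha
      exact hfm i
    · rw [← hfrad]
      refine Ideal.radical_mono (le_trans (Ideal.span_le.2 ?_) le_sup_right)
      rintro _ ⟨i, rfl⟩
      exact Ideal.subset_span (List.mem_map.2 ⟨b i, List.mem_ofFn.2 ⟨i, rfl⟩, rfl⟩)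
  have hdown : ∀ (T : List B) (a : B) (u : (m₀ k n).primeCompl),
      φ a ∈ Ideal.ofList (T.map φ) → algebraMap B L a ∈ Ideal.ofList (T.map (algebraMap B L)) := by
    intro T a _ h
    rw [← Ideal.map_ofList] at h ⊢
    exact mem_of_map_mem hG hX _ a (by rwa [Ideal.map_map])
  have hLreg : RingTheory.Sequence.IsWeaklyRegular L l := by
    rw [RingTheory.Sequence.isWeaklyRegular_iff] at hRreg ⊢
    intro i hi
    refine IsSMulRegular.of_right_eq_zero_of_smul fun z hz => ?_
    obtain ⟨z, rfl⟩ := Submodule.Quotient.mk_surjective _ z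
    have hiR : i < ((List.ofFn b).map φ).length := by simpa [l] using hi
    have hib : i < (List.ofFn b).length := by simpa [l] using hi
    rw [← Submodule.Quotient.mk_smul, Submodule.Quotient.mk_eq_zero, smul_eq_mul, smul_eq_mul, Ideal.mul_top,
      List.getElem_map, ← List.map_take] at hz
    rw [Submodule.Quotient.mk_eq_zero, smul_eq_mul, Ideal.mul_top, ← List.map_take]
    have hzR : φ (List.ofFn b)[i] * ι z ∈ Ideal.ofList (((List.ofFn b).take i).map φ) := by
      have := Ideal.mem_map_of_mem ι hz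
      rw [Ideal.map_ofList, map_mul, hι, List.map_map] at this
      rwa [show (ι ∘ algebraMap B L : B → R) = φ from funext hι] at this
    have hzR' : ι z ∈ Ideal.ofList (((List.ofFn b).take i).map φ) := by
      have := (hRreg i hiR).right_eq_zero_of_smul (x := Submodule.Quotient.mk (ι z)) (by
        rw [← Submodule.Quotient.mk_smul, Submodule.Quotient.mk_eq_zero, smul_eq_mul, smul_eq_mul, Ideal.mul_top,
          List.getElem_map, ← List.map_take]
        exact hzR)
      rwa [Submodule.Quotient.mk_eq_zero, smul_eq_mul, Ideal.mul_top, ← List.map_take] at this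
    obtain ⟨a, t, rfl⟩ := IsLocalization.exists_mk'_eq m.primeCompl z
    rw [IsLocalization.mk'_eq_mul_mk'_one]
    refine Ideal.mul_mem_right _ _ (hdown _ a 1 ?_)
    have : φ a = ι (IsLocalization.mk' L a t) * φ t := by
      rw [← hι, ← hι, ← map_mul, IsLocalization.mk'_spec]
    rw [this]
    exact Ideal.mul_mem_right _ _ hzR'
  rw [Gor18.gor_quotient_ofList_iff l.length L l rfl hlm hLreg]
  have hlJ : Ideal.ofList l = Ideal.span (Set.range fun i => algebraMap B L (b i)) := by
    refine congrArg Ideal.span (Set.ext fun y => ?_)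
    simp [l, List.mem_ofFn, eq_comm]
  -- the socle element
  let J : Ideal R := Ideal.span (Set.range f)
  have hmemJ : ∀ a : B, φ a ∈ J → algebraMap B L a ∈ Ideal.ofList l := by
    intro a ha
    refine hdown (List.ofFn b) a 1 ?_
    rw [show Ideal.ofList ((List.ofFn b).map φ) = J from congrArg Ideal.span (Set.ext fun y => by
      simp [f, List.mem_ofFn, eq_comm])]
    exact ha
  have hmemJ' : ∀ a : B, algebraMap B L a ∈ Ideal.ofList l → φ a ∈ J := by
    intro a ha
    have := Ideal.mem_map_of_mem ι ha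
    rw [hlJ, Ideal.map_span, ← Set.range_comp, hι] at this
    rwa [show (ι ∘ fun i => algebraMap B L (b i)) = f from funext fun i => hι _] at this
  have hbX : ∀ i, ∃ c : Fin n → P, ∑ j, c j * X j = (algebraMap B P (b i)) := fun i => by
    have h1 : (algebraMap B P (b i)) ∈ m₀ k n := hs.1.2 (Ideal.subset_span (e i).2)
    rw [← span_X] at h1
    exact Ideal.mem_span_range_iff_exists_fun.1 h1
  choose c hc using hbX
  let M : Matrix (Fin n) (Fin n) P := Matrix.of c
  let x : Fin n → R := fun j => algebraMap P R (X j)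
  have hMX : M *ᵥ (X : Fin n → P) = fun i => (algebraMap B P (b i)) := funext hc
  have hmap : ∀ {A : Matrix (Fin n) (Fin n) P}, A *ᵥ (X : Fin n → P) = (fun i => (algebraMap B P (b i))) →
      A.map (algebraMap P R) *ᵥ x = f := by
    intro A hA
    funext i
    have := congrArg (algebraMap P R) (congrFun hA i)
    rw [mulVec, dotProduct, map_sum] at this
    simp only [map_mul] at this
    exact this
  have hcancel : Wiebe.Cancel f := cancel k n f hfrad
  let Δ : P := M.det
  have hΔm : ∀ p ∈ m₀ k n, algebraMap P R (p * Δ) ∈ J := by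
    intro p hp
    rw [← span_X] at hp
    obtain ⟨q, rfl⟩ := Ideal.mem_span_range_iff_exists_fun.1 hp
    rw [Finset.sum_mul, map_sum]
    refine sum_mem fun j _ => ?_
    rw [map_mul, map_mul, mul_assoc, mul_comm _ (algebraMap P R Δ)]
    refine J.mul_mem_left _ ?_
    rw [RingHom.map_det]
    exact Wiebe.det_mul_mem _ x (I := J) (fun i => by rw [RingHom.mapMatrix_apply, hmap hMX]; exact Ideal.subset_span ⟨i, rfl⟩) j
  have hΔJ : algebraMap P R Δ ∉ J := by
    have hprim : ∃ N, ∀ j, x j ^ (N + 1) ∈ J := by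
      have : ∀ j, ∃ N, x j ^ N ∈ J := fun j => (show x j ∈ J.radical from hfrad.symm ▸ span_x k n ▸ Ideal.subset_span ⟨j, rfl⟩)
      choose N hN using this
      exact ⟨∑ j, N j, fun j => J.pow_mem_of_pow_mem (hN j) (by
        have := Finset.single_le_sum (f := N) (fun _ _ => Nat.zero_le _) (Finset.mem_univ j); omega)⟩
    obtain ⟨N, hN⟩ := hprim
    rw [RingHom.map_det, RingHom.mapMatrix_apply]
    exact Wiebe.det_notMem (hmap hMX) N (cancel k n _ (radical_pow k n N)) hN (prod_notMem k n N)
  have hgΔ : ∀ g : G, algebraMap P R (g • Δ) - algebraMap P R Δ ∈ J := by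
    intro g
    let γ : P →+* P := MulSemiringAction.toRingHom G P g
    let M' : Matrix (Fin n) (Fin n) P := γ.mapMatrix M * ((ρ g).map C)ᵀ
    have hM' : M' *ᵥ (X : Fin n → P) = fun i => (algebraMap B P (b i)) := by
      rw [← mulVec_mulVec]
      funext i
      have h1 : (((ρ g).map C)ᵀ *ᵥ (X : Fin n → P)) = fun j => g • (X j : P) := funext fun j => by
        rw [hX]; simp [mulVec, dotProduct, C_mul']
      rw [h1]
      calc (γ.mapMatrix M *ᵥ fun j => g • (X j : P)) i = g • ((M *ᵥ (X : Fin n → P)) i) := by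
            simp [mulVec, dotProduct, γ, Finset.smul_sum, smul_mul']
        _ = (algebraMap B P (b i)) := by rw [hMX]; exact smul_algebraMap g (b i)
    have hdet' : M'.det = g • Δ := by
      rw [det_mul, det_transpose, ← RingHom.mapMatrix_apply, ← RingHom.map_det, ← RingHom.map_det, hdet g, map_one,
        mul_one]
      rfl
    rw [← hdet', RingHom.map_det, RingHom.map_det, RingHom.mapMatrix_apply, RingHom.mapMatrix_apply]
    exact Wiebe.det_sub_mem (hmap hM') (hmap hMX) hcancel
  -- stability of the ideal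
  have hJmem : ∀ p : P, algebraMap P R p ∈ J ↔ ∃ t : P, t ∉ m₀ k n ∧ t * p ∈ Ideal.span (Set.range fun i => (algebraMap B P (b i))) := by
    intro p
    rw [show J = (Ideal.span (Set.range fun i => (algebraMap B P (b i)))).map (algebraMap P R) by
      rw [Ideal.map_span, ← Set.range_comp]; rfl, IsLocalization.algebraMap_mem_map_algebraMap_iff (m₀ k n).primeCompl]
    rfl
  have hJstab : ∀ (g : G) (p : P), algebraMap P R p ∈ J → algebraMap P R (g • p) ∈ J := by
    intro g p hp
    obtain ⟨t, ht, htp⟩ := (hJmem p).1 hp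
    refine (hJmem _).2 ⟨g • t, fun h => ht ?_, ?_⟩
    · have h' : constantCoeff (g • t) = 0 := h
      rwa [cc_smul hX] at h'
    · rw [← smul_mul']
      obtain ⟨q, hq⟩ := Ideal.mem_span_range_iff_exists_fun.1 htp
      rw [← hq, Finset.smul_sum]
      refine sum_mem fun i _ => ?_
      rw [smul_mul', smul_algebraMap]
      exact Ideal.mul_mem_left _ _ (Ideal.subset_span ⟨i, rfl⟩)
  obtain ⟨ΔA, hΔAe⟩ := Algebra.IsInvariant.isInvariant (A := B) (G := G) _ (smul_avg (G := G) Δ)
  have havg : ∀ (p q : P), (∀ g : G, algebraMap P R (g • p) - algebraMap P R q ∈ J) →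
      algebraMap P R (avg (G := G) p) - algebraMap P R q ∈ J := by
    intro p q h
    have hC : ∀ (c : k) (y : P), algebraMap P R (c • y) = algebraMap P R (C c) * algebraMap P R y := fun c y => by
      rw [← map_mul, C_mul']
    have e1 : avg (G := G) p - q = C (((Nat.card G : ℕ) : k)⁻¹) * ∑ g : G, (g • p - q) := by
      rw [C_mul', Finset.sum_sub_distrib, smul_sub, Finset.sum_const, Finset.card_univ, ← Nat.card_eq_fintype_card,
        ← Nat.cast_smul_eq_nsmul k, smul_smul, inv_mul_cancel₀ hG.ne_zero, one_smul]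
      rfl
    rw [← map_sub, e1, map_mul, map_sum]
    exact J.mul_mem_left _ (sum_mem fun g _ => by rw [map_sub]; exact h g)
  have hΔA : φ ΔA - algebraMap P R Δ ∈ J := by
    show algebraMap P R (algebraMap B P ΔA) - _ ∈ J
    rw [hΔAe]
    exact havg Δ Δ hgΔ
  have hΔA0 : algebraMap B L ΔA ∉ Ideal.ofList l := fun h => hΔJ (by
    have := J.sub_mem (hmemJ' _ h) hΔA
    simpa using this)
  have hΔAm : ∀ a ∈ m, algebraMap B L (a * ΔA) ∈ Ideal.ofList l := by
    intro a ha
    refine hmemJ _ ?_
    have h1 : algebraMap P R ((algebraMap B P a) * Δ) ∈ J := hΔm _ ha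
    rw [show φ (a * ΔA) = φ a * (φ ΔA - algebraMap P R Δ) + algebraMap P R ((algebraMap B P a) * Δ) by
      rw [map_mul, mul_sub, map_mul, show φ a = algebraMap P R (algebraMap B P a) from rfl]; ring]
    exact J.add_mem (J.mul_mem_left _ hΔA) h1
  -- artinian quotients
  have hRJ : Nontrivial (R ⧸ J) := Ideal.Quotient.nontrivial_iff.2 fun h => hΔJ (h ▸ Submodule.mem_top)
  haveI : IsLocalRing (R ⧸ J) := IsLocalRing.of_surjective' _ Ideal.Quotient.mk_surjective
  have Gor18RJ : LocCoh.IsGorensteinLocalRing (R ⧸ J) := by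
    haveI : LocCoh.IsGorensteinLocalRing R := Gor18.regular_gor R
    have := (Gor18.gor_quotient_ofList_iff _ R ((List.ofFn b).map φ) rfl (by
      intro y hy
      obtain ⟨a, ha, rfl⟩ := List.mem_map.1 hy
      obtain ⟨i, rfl⟩ := List.mem_ofFn.1 ha
      exact hfm i) hRreg).1 inferInstance
    rwa [show Ideal.ofList ((List.ofFn b).map φ) = J from congrArg Ideal.span (Set.ext fun y => by
      simp [f, List.mem_ofFn, eq_comm])] at this
  obtain ⟨K, hK⟩ : ∃ K, IsLocalRing.maximalIdeal R ^ K ≤ J := by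
    obtain ⟨K, hK⟩ := J.exists_radical_pow_le_of_fg (IsNoetherian.noetherian _)
    exact ⟨K, hfrad ▸ hK⟩
  haveI : IsArtinianRing (R ⧸ J) := by
    refine (isArtinianRing_iff_isNilpotent_maximalIdeal (R ⧸ J)).2 ⟨K, ?_⟩
    rw [← IsLocalRing.map_maximalIdeal_of_surjective _ Ideal.Quotient.mk_surjective, ← Ideal.map_pow,
      Ideal.zero_eq_bot, Ideal.map_eq_bot_iff_le_ker, Ideal.mk_ker]
    exact hK
  have hsocR := Gor18.artinian_gor_iff_simple_socle.1 Gor18RJ
  have hsocmem : ∀ y : R, (∀ z ∈ IsLocalRing.maximalIdeal R, z * y ∈ J) →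
      Ideal.Quotient.mk J y ∈ LocCoh.torsionBy (R := R ⧸ J) (IsLocalRing.maximalIdeal (R ⧸ J)) (R ⧸ J) := by
    intro y hy
    refine (Submodule.mem_torsionBySet_iff _ _).2 fun z => ?_
    obtain ⟨z, hz⟩ := z
    obtain ⟨z, rfl⟩ := Ideal.Quotient.mk_surjective z
    show Ideal.Quotient.mk J z * Ideal.Quotient.mk J y = 0
    rw [← map_mul, Ideal.Quotient.eq_zero_iff_mem]
    refine hy z ?_
    by_contra hzm
    exact (IsLocalRing.maximalIdeal.isMaximal _).ne_top (Ideal.eq_top_of_isUnit_mem _ hz
      ((IsLocalRing.notMem_maximalIdeal.1 hzm).map _))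
  have hdiv : ∀ y : R, y ∉ J → ∃ z : R, z * y - algebraMap P R Δ ∈ J := by
    intro y hy
    have hex : ∃ j, ∀ z ∈ IsLocalRing.maximalIdeal R ^ j, z * y ∈ J :=
      ⟨K, fun z hz => J.mul_mem_right _ (hK hz)⟩
    obtain ⟨j, hj⟩ : ∃ j, Nat.find hex = j + 1 := by
      rcases Nat.exists_eq_succ_of_ne_zero (n := Nat.find hex) fun h0 => hy (by
        have := Nat.find_spec hex
        rw [h0, pow_zero, Ideal.one_eq_top] at this
        simpa using this 1 Submodule.mem_top) with ⟨j, hj⟩
      exact ⟨j, hj⟩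
    obtain ⟨w, hw, hwy⟩ : ∃ w ∈ IsLocalRing.maximalIdeal R ^ j, w * y ∉ J := by
      by_contra hcon
      push Not at hcon
      have := Nat.find_min' hex hcon
      omega
    let socle := LocCoh.torsionBy (R := R ⧸ J) (IsLocalRing.maximalIdeal (R ⧸ J)) (R ⧸ J)
    have hw1 : Ideal.Quotient.mk J (w * y) ∈ socle := hsocmem _ fun z hz => by
      rw [← mul_assoc]
      refine (Nat.find_spec hex) _ ?_
      rw [hj, pow_succ']
      exact Ideal.mul_mem_mul hz hw
    have hD : Ideal.Quotient.mk J (algebraMap P R Δ) ∈ socle := hsocmem _ fun z hz => by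
      obtain ⟨p, t, rfl⟩ := IsLocalization.exists_mk'_eq (m₀ k n).primeCompl z
      rw [IsLocalization.mk'_eq_mul_mk'_one, mul_right_comm, ← map_mul]
      exact J.mul_mem_right _ (hΔm p ((IsLocalization.AtPrime.mk'_mem_maximal_iff R (m₀ k n) p t).1 hz))
    haveI := hsocR
    obtain ⟨q, hq⟩ := Submodule.mem_span_singleton.1
      ((IsSimpleModule.span_singleton_eq_top (R ⧸ J) (M := socle) (m := ⟨_, hw1⟩)
        (fun h0 => hwy (Ideal.Quotient.eq_zero_iff_mem.1 (congrArg Subtype.val h0)))).ge
        (Submodule.mem_top (x := (⟨_, hD⟩ : socle))))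
    obtain ⟨q, rfl⟩ := Ideal.Quotient.mk_surjective q
    refine ⟨q * w, ?_⟩
    rw [← Ideal.Quotient.eq]
    rw [mul_assoc, map_mul]
    exact congrArg Subtype.val hq
  -- the socle of the invariants
  haveI : Nontrivial (L ⧸ Ideal.ofList l) := Ideal.Quotient.nontrivial_iff.2 fun h => hΔA0 (h ▸ Submodule.mem_top)
  haveI : IsLocalRing (L ⧸ Ideal.ofList l) := IsLocalRing.of_surjective' _ Ideal.Quotient.mk_surjective
  haveI : IsArtinianRing (L ⧸ Ideal.ofList l) := by
    refine (isArtinianRing_iff_isNilpotent_maximalIdeal (L ⧸ Ideal.ofList l)).2 ⟨K, ?_⟩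
    rw [← IsLocalRing.map_maximalIdeal_of_surjective _ Ideal.Quotient.mk_surjective, ← Ideal.map_pow,
      Ideal.zero_eq_bot, Ideal.map_eq_bot_iff_le_ker, Ideal.mk_ker, ← Localization.AtPrime.map_eq_maximalIdeal,
      ← Ideal.map_pow, Ideal.map_le_iff_le_comap]
    intro a ha
    refine hmemJ a (hK ?_)
    have := Ideal.mem_map_of_mem φ ha
    rw [Ideal.map_pow] at this
    refine Ideal.pow_right_mono (Ideal.map_le_iff_le_comap.2 ?_) K this
    exact fun a ha => (IsLocalization.AtPrime.to_map_mem_maximal_iff R (m₀ k n) _).2 ha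
  let socA := LocCoh.torsionBy (R := L ⧸ Ideal.ofList l) (IsLocalRing.maximalIdeal (L ⧸ Ideal.ofList l)) (L ⧸ Ideal.ofList l)
  let D : L ⧸ Ideal.ofList l := Ideal.Quotient.mk _ (algebraMap B L ΔA)
  have hmaxL : ∀ z ∈ IsLocalRing.maximalIdeal (L ⧸ Ideal.ofList l), z * D = 0 := by
    intro z hz
    obtain ⟨z, rfl⟩ := Ideal.Quotient.mk_surjective z
    have hz' : z ∈ IsLocalRing.maximalIdeal L := by
      by_contra hzm
      exact (IsLocalRing.maximalIdeal.isMaximal _).ne_top (Ideal.eq_top_of_isUnit_mem _ hz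
        ((IsLocalRing.notMem_maximalIdeal.1 hzm).map _))
    obtain ⟨a, t, rfl⟩ := IsLocalization.exists_mk'_eq m.primeCompl z
    show _ * Ideal.Quotient.mk _ _ = 0
    rw [← map_mul, Ideal.Quotient.eq_zero_iff_mem, IsLocalization.mk'_eq_mul_mk'_one, mul_right_comm, ← map_mul]
    exact Ideal.mul_mem_right _ _ (hΔAm a ((IsLocalization.AtPrime.mk'_mem_maximal_iff L m a t).1 hz'))
  have hD0 : D ≠ 0 := fun h => hΔA0 (Ideal.Quotient.eq_zero_iff_mem.1 h)
  refine gor_of_gen D hD0 hmaxL ?_
  show ∀ y ∈ socA, y ≠ 0 → ∃ u : L ⧸ Ideal.ofList l, IsUnit u ∧ u * y = D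
  · intro y hy hy0
    obtain ⟨y, rfl⟩ := Ideal.Quotient.mk_surjective y
    obtain ⟨a, t, rfl⟩ := IsLocalization.exists_mk'_eq m.primeCompl y
    have haJ : φ a ∉ J := fun h => hy0 (by
      rw [IsLocalization.mk'_eq_mul_mk'_one, map_mul, Ideal.Quotient.eq_zero_iff_mem.2 (hmemJ a h), zero_mul])
    obtain ⟨z, hz⟩ := hdiv _ haJ
    obtain ⟨c₁, t₁, rfl⟩ := IsLocalization.exists_mk'_eq (m₀ k n).primeCompl z
    let N : P := ∏ g : G, g • (t₁ : P)
    have hN : ∀ g : G, g • N = N := smul_prod (t₁ : P)
    obtain ⟨NB, hNB⟩ := Algebra.IsInvariant.isInvariant (A := B) (G := G) N hN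
    have hNm : constantCoeff N ≠ 0 := by
      rw [map_prod, Finset.prod_ne_zero_iff]
      intro g _
      rw [cc_smul hX]
      exact t₁.2
    let c₂ : P := c₁ * ∏ g ∈ Finset.univ.erase (1 : G), g • (t₁ : P)
    have hNt : N = (t₁ : P) * ∏ g ∈ Finset.univ.erase (1 : G), g • (t₁ : P) := by
      rw [show N = ∏ g : G, g • (t₁ : P) from rfl, ← Finset.mul_prod_erase _ _ (Finset.mem_univ (1 : G)), one_smul]
    have hc₂ : algebraMap P R (c₂ * (algebraMap B P a) - N * Δ) ∈ J := by
      have h1 : algebraMap P R (c₁ * (algebraMap B P a) - (t₁ : P) * Δ) ∈ J := by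
        rw [show algebraMap P R (c₁ * (algebraMap B P a) - (t₁ : P) * Δ) =
          algebraMap P R (t₁ : P) * (IsLocalization.mk' R c₁ t₁ * φ a - algebraMap P R Δ) by
          rw [mul_sub, ← mul_assoc, IsLocalization.mk'_spec'_mk, map_sub, map_mul, map_mul]; rfl]
        exact J.mul_mem_left _ hz
      rw [show c₂ * (algebraMap B P a) - N * Δ =
        (∏ g ∈ Finset.univ.erase (1 : G), g • (t₁ : P)) * (c₁ * (algebraMap B P a) - (t₁ : P) * Δ) by rw [hNt]; ring, map_mul]
      exact J.mul_mem_left _ h1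
    obtain ⟨cA, hcAe⟩ := Algebra.IsInvariant.isInvariant (A := B) (G := G) _ (smul_avg (G := G) c₂)
    have hcA : φ (cA * a) - algebraMap P R (N * Δ) ∈ J := by
      rw [show φ (cA * a) = algebraMap P R (avg (G := G) ((algebraMap B P a) * c₂)) by
        rw [avg_mul, mul_comm (algebraMap B P a), ← hcAe, ← map_mul]; rfl]
      refine havg _ _ fun g => ?_
      have h1 := hJstab g _ hc₂
      rw [smul_sub, smul_mul' g c₂ (algebraMap B P a), smul_mul' g N Δ, smul_algebraMap g a,
        hN g, map_sub] at h1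
      have h2 : algebraMap P R N * (algebraMap P R (g • Δ) - algebraMap P R Δ) ∈ J := J.mul_mem_left _ (hgΔ g)
      have h3 := J.add_mem h1 h2
      rw [smul_mul' g (algebraMap B P a) c₂, smul_algebraMap g a]
      convert h3 using 1
      simp only [map_mul]
      ring
    have hkey : algebraMap B L (cA * a - NB * ΔA) ∈ Ideal.ofList l := by
      refine hmemJ _ ?_
      rw [map_sub, map_mul φ NB]
      have h2 : algebraMap P R N * (φ ΔA - algebraMap P R Δ) ∈ J := J.mul_mem_left _ hΔA
      convert J.sub_mem hcA h2 using 1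
      rw [map_mul (algebraMap P R), show φ NB = algebraMap P R N from congrArg (algebraMap P R) hNB]
      ring
    have hNu : IsUnit (algebraMap B L NB) :=
      IsLocalization.map_units L (⟨NB, fun h => hNm (hNB ▸ h)⟩ : m.primeCompl)
    have hcu : IsUnit (algebraMap B L cA) := by
      refine IsLocalization.map_units L (⟨cA, fun hc0 => hD0 ?_⟩ : m.primeCompl)
      have h1 : Ideal.Quotient.mk (Ideal.ofList l) (algebraMap B L cA) *
          Ideal.Quotient.mk (Ideal.ofList l) (IsLocalization.mk' L a t) = 0 :=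
        (Submodule.mem_torsionBySet_iff _ _).1 hy ⟨_, by
          rw [← IsLocalRing.map_maximalIdeal_of_surjective _ Ideal.Quotient.mk_surjective]
          exact Ideal.mem_map_of_mem _ ((IsLocalization.AtPrime.to_map_mem_maximal_iff L m _).2 hc0)⟩
      have h2 : Ideal.Quotient.mk (Ideal.ofList l) (algebraMap B L (cA * a)) = 0 := by
        rw [map_mul, show algebraMap B L a = IsLocalization.mk' L a t * algebraMap B L t from
          (IsLocalization.mk'_spec L a t).symm, ← mul_assoc, map_mul, map_mul, h1, zero_mul]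
      rw [map_sub, ← Ideal.Quotient.eq, h2, map_mul, map_mul] at hkey
      exact (((hNu.map (Ideal.Quotient.mk (Ideal.ofList l)))).mul_right_eq_zero).1 hkey.symm
    refine ⟨Ideal.Quotient.mk (Ideal.ofList l) (algebraMap B L cA * algebraMap B L t) *
      ↑(hNu.map (Ideal.Quotient.mk (Ideal.ofList l))).unit⁻¹, ?_, ?_⟩
    · exact ((hcu.mul (IsLocalization.map_units L t)).map _).mul (Units.isUnit _)
    · have e1 : Ideal.Quotient.mk (Ideal.ofList l) (algebraMap B L cA * algebraMap B L t) *
          Ideal.Quotient.mk (Ideal.ofList l) (IsLocalization.mk' L a t) =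
          Ideal.Quotient.mk (Ideal.ofList l) (algebraMap B L NB) * D := by
        show _ = _ * Ideal.Quotient.mk (Ideal.ofList l) (algebraMap B L ΔA)
        rw [← map_mul, mul_assoc, IsLocalization.mk'_spec', ← map_mul (Ideal.Quotient.mk (Ideal.ofList l)),
          ← map_mul (algebraMap B L), ← map_mul (algebraMap B L), Ideal.Quotient.eq, ← map_sub]
        exact hkey
      exact unit_trick _ e1

end main

variable (k n G) in
/-- The invariant subalgebra. -/
abbrev Inv : Subalgebra k (MvPolynomial (Fin n) k) := FixedPoints.subalgebra k (MvPolynomial (Fin n) k) G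

instance (priority := high) instCommRingInv : CommRing (Inv k n G) := inferInstance

/-- The ideal of the origin in the invariants. -/
abbrev mI : Ideal (Inv k n G) := m₁ (k := k) (n := n) (Inv k n G)

theorem mem_Inv {p : P} (h : ∀ g : G, g • p = p) : p ∈ Inv k n G := h

instance : Algebra.IsInvariant (Inv k n G) P G := ⟨fun p hp => ⟨⟨p, hp⟩, rfl⟩⟩

instance finiteType_Inv : Algebra.FiniteType k (Inv k n G) := by
  haveI : Algebra.IsIntegral (Inv k n G) P := Algebra.IsInvariant.isIntegral (Inv k n G) P G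
  haveI : Algebra.FiniteType (Inv k n G) P := Algebra.FiniteType.of_restrictScalars_finiteType k _ P
  haveI : Module.Finite (Inv k n G) P := Algebra.IsIntegral.finite
  exact ⟨fg_of_fg_of_fg k (Inv k n G) P Algebra.FiniteType.out (Module.Finite.fg_top) Subtype.val_injective⟩

instance : IsNoetherianRing (Inv k n G) := Algebra.FiniteType.isNoetherianRing k _


end Groth.Agent.InvTh34.Watanabe
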