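import Mathlib.LinearAlgebra.Matrix.Adjugate
import Mathlib.LinearAlgebra.Matrix.Determinant.Basic
import Mathlib.RingTheory.Ideal.Span
import Mathlib.RingTheory.Ideal.Operations
import Mathlib.Algebra.Module.Submodule.RestrictScalars

/-!
Wiebe's lemma: the determinant of a matrix expressing a system of parameters in terms of
another one.
-/

set_option autoImplicit false

universe u

open Matrix

namespace Groth.Agent.InvTh34.Wiebe

variable {R : Type u} [CommRing R] {n : ℕ}

/-- Each element of the family is regular modulo the others. -/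
def Cancel (f : Fin n → R) : Prop :=
  ∀ i z, z * f i ∈ Ideal.span (f '' {j | j ≠ i}) → z ∈ Ideal.span (f '' {j | j ≠ i})

/-- Cramer's rule, as a membership. -/
theorem det_mul_mem (M : Matrix (Fin n) (Fin n) R) (x : Fin n → R) {I : Ideal R} (h : ∀ i, (M *ᵥ x) i ∈ I)
    (k : Fin n) : M.det * x k ∈ I := by
  have e : (adjugate M *ᵥ (M *ᵥ x)) k = M.det * x k := by
    rw [mulVec_mulVec, adjugate_mul, smul_mulVec, one_mulVec, Pi.smul_apply, smul_eq_mul]
  rw [← e, mulVec, dotProduct]
  exact sum_mem fun j _ => I.mul_mem_left _ (h j)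

/-- Replacing one row by a relation gives a determinant in the ideal of the other elements. -/
theorem det_updateRow_mem {M : Matrix (Fin n) (Fin n) R} {x f : Fin n → R} (hM : M *ᵥ x = f) (hf : Cancel f)
    (i : Fin n) {r : Fin n → R} (hr : r ⬝ᵥ x = 0) :
    (M.updateRow i r).det ∈ Ideal.span (f '' {j | j ≠ i}) := by
  set I := Ideal.span (f '' {j | j ≠ i})
  have hrows : ∀ l, (M.updateRow i r *ᵥ x) l ∈ I := by
    intro l
    show (M.updateRow i r l) ⬝ᵥ x ∈ I
    by_cases hl : l = i
    · rw [hl, updateRow_self, hr]; exact zero_mem _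
    · rw [updateRow_ne hl, show M l ⬝ᵥ x = f l from congrFun hM l]
      exact Ideal.subset_span ⟨l, hl, rfl⟩
  refine hf i _ ?_
  rw [← congrFun hM i, mulVec, dotProduct, Finset.mul_sum]
  refine sum_mem fun k _ => ?_
  rw [mul_left_comm]
  exact I.mul_mem_left _ (det_mul_mem _ x hrows k)

/-- The determinant does not depend on the matrix, modulo the ideal. -/
theorem det_sub_mem {M M' : Matrix (Fin n) (Fin n) R} {x f : Fin n → R} (hM : M *ᵥ x = f) (hM' : M' *ᵥ x = f)
    (hf : Cancel f) : M.det - M'.det ∈ Ideal.span (Set.range f) := by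
  classical
  let T : Finset (Fin n) → Matrix (Fin n) (Fin n) R := fun s i => if i ∈ s then M' i else M i
  suffices h : ∀ s, M.det - (T s).det ∈ Ideal.span (Set.range f) by
    have := h Finset.univ
    rwa [show T Finset.univ = M' from funext fun i => by simp [T]] at this
  intro s
  induction s using Finset.induction_on with
  | empty => rw [show T ∅ = M from funext fun i => by simp [T], sub_self]; exact zero_mem _
  | insert i s his ih =>
    have hT : T s *ᵥ x = f := funext fun l => by
      show (T s l) ⬝ᵥ x = f l
      by_cases hl : l ∈ s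
      · simp only [T, if_pos hl]; exact congrFun hM' l
      · simp only [T, if_neg hl]; exact congrFun hM l
    have hrel : (M' i - M i) ⬝ᵥ x = 0 := by
      rw [sub_dotProduct, show M' i ⬝ᵥ x = f i from congrFun hM' i, show M i ⬝ᵥ x = f i from congrFun hM i, sub_self]
    have h1 := det_updateRow_mem hT hf i hrel
    have h2 : T (insert i s) = (T s).updateRow i (T s i + (M' i - M i)) := funext fun l => by
      by_cases hl : l = i
      · rw [hl, updateRow_self]; simp [T, his]
      · rw [updateRow_ne hl]; simp [T, hl]
    rw [h2, det_updateRow_add, updateRow_eq_self, ← sub_sub]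
    exact Ideal.sub_mem _ ih (Ideal.span_mono (Set.image_subset_range _ _) h1)

/-- The determinant is non-zero modulo the ideal. -/
theorem det_notMem {M : Matrix (Fin n) (Fin n) R} {x f : Fin n → R} (hM : M *ᵥ x = f) (N : ℕ)
    (hN : Cancel fun k => x k ^ (N + 1)) (hmem : ∀ k, x k ^ (N + 1) ∈ Ideal.span (Set.range f))
    (hsoc : ∏ k, x k ^ N ∉ Ideal.span (Set.range fun k => x k ^ (N + 1))) :
    M.det ∉ Ideal.span (Set.range f) := by
  classical
  intro hdet
  choose b hb using fun k => Ideal.mem_span_range_iff_exists_fun.1 (hmem k)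
  let B : Matrix (Fin n) (Fin n) R := Matrix.of b
  let g : Fin n → R := fun k => x k ^ (N + 1)
  have hB : B *ᵥ f = g := funext fun k => by
    show ∑ l, b k l * f l = g k
    exact hb k
  have h1 : (B * M) *ᵥ x = g := by rw [← mulVec_mulVec, hM, hB]
  have h2 : Matrix.diagonal (fun k => x k ^ N) *ᵥ x = g := funext fun k => by
    rw [mulVec_diagonal]; exact (pow_succ _ _).symm
  have h3 := det_sub_mem h1 h2 hN
  rw [det_mul, det_diagonal] at h3
  have h4 : B.det * M.det ∈ Ideal.span (Set.range g) := by
    have hle : Ideal.span (Set.range f) ≤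
        (Ideal.span (Set.range g)).comap (LinearMap.mulLeft R B.det) := by
      rw [Ideal.span_le]
      rintro _ ⟨l, rfl⟩
      exact det_mul_mem B f (I := Ideal.span (Set.range g)) (fun i => by rw [hB]; exact Ideal.subset_span ⟨i, rfl⟩) l
    exact hle hdet
  exact hsoc (by simpa using Ideal.sub_mem _ h4 h3)

end Groth.Agent.InvTh34.Wiebe
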